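import Mathlib.RingTheory.Invariant.Basic
import Mathlib.RingTheory.Ideal.GoingUp
import Mathlib.RingTheory.Ideal.Height
import Mathlib.RingTheory.Ideal.Pointwise

/-!
Inertia and generation of a ring by invariant subrings, for a finite commutative group.
-/

set_option autoImplicit false
set_option linter.style.haveILetI false

open scoped Pointwise

universe u v w

namespace Groth.Agent.InvGen

variable {R : Type u} [CommRing R] {A : Type v} [CommRing A] [Algebra R A]
  {H : Type w} [CommGroup H] [MulSemiringAction H A] [SMulCommClass H R A]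

variable (R A) in
/-- Invariants of a subgroup. -/
abbrev Inv (N : Subgroup H) : Subalgebra R A := FixedPoints.subalgebra R A ↥N

lemma mem_Inv {N : Subgroup H} {a : A} : a ∈ Inv R A N ↔ ∀ τ ∈ N, τ • a = a :=
  ⟨fun h τ hτ => h ⟨τ, hτ⟩, fun h τ => h τ.1 τ.2⟩

lemma smul_mem_Inv {N : Subgroup H} {a : A} (ha : a ∈ Inv R A N) (h : H) : h • a ∈ Inv R A N := by
  refine mem_Inv.2 fun τ hτ => ?_
  rw [← mul_smul, mul_comm, mul_smul, mem_Inv.1 ha τ hτ]

instance (N : Subgroup H) : Algebra.IsInvariant (Inv R A N) A ↥N :=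
  ⟨fun a h => ⟨⟨a, h⟩, rfl⟩⟩

variable [Finite H]

/-- If `τ` is trivial on `A^N` modulo a prime `Q` but is not in `N`, some element outside `N` is in
the inertia group of `Q`. -/
lemma exists_inertia {N : Subgroup H} {τ : H} (hτ : τ ∉ N) (Q : Ideal A) [Q.IsPrime]
    (hQ : ∀ a ∈ Inv R A N, τ • a - a ∈ Q) : ∃ ρ ∈ Q.inertia H, ρ ∉ N := by
  haveI : (τ • Q).IsPrime := Ideal.IsPrime.smul τ
  have hu : (τ • Q).under (Inv R A N) = Q.under (Inv R A N) := by
    ext ⟨c, hc⟩
    simp only [Ideal.under_def, Ideal.mem_comap]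
    show c ∈ τ • Q ↔ c ∈ Q
    rw [Ideal.mem_pointwise_smul_iff_inv_smul_mem]
    have h := hQ _ (smul_mem_Inv hc τ⁻¹)
    rw [smul_inv_smul] at h
    exact ⟨fun h' => by simpa using add_mem h h', fun h' => by simpa using sub_mem h' h⟩
  obtain ⟨g, hg⟩ := Algebra.IsInvariant.exists_smul_of_under_eq (Inv R A N) A ↥N (τ • Q) Q hu
  set σ : H := (g : H) * τ with hσdef
  have hσQ : σ • Q = Q := by
    conv_rhs => rw [hg]
    rw [hσdef, mul_smul]
    rfl
  have hσC : ∀ c ∈ Inv R A N, σ • c - c ∈ Q := fun c hc => by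
    rw [hσdef, mul_smul, mem_Inv.1 (smul_mem_Inv hc τ) _ g.2]
    exact hQ c hc
  haveI : Q.LiesOver (Q.under (Inv R A N)) := Q.over_under
  let f : (A ⧸ Q) ≃ₐ[Inv R A N ⧸ Q.under (Inv R A N)] (A ⧸ Q) :=
    { Ideal.quotientEquiv Q Q (MulSemiringAction.toRingEquiv H A σ) hσQ.symm with
      commutes' := by
        rintro ⟨c, hc⟩
        exact Ideal.Quotient.eq.2 (hσC c hc) }
  obtain ⟨g', hg'⟩ := Ideal.Quotient.stabilizerHom_surjective ↥N (Q.under (Inv R A N)) Q f
  refine ⟨(g'.1 : H)⁻¹ * σ, ?_, ?_⟩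
  · intro a
    have h1 : Ideal.Quotient.mk Q ((g'.1 : H) • a) = Ideal.Quotient.mk Q (σ • a) :=
      DFunLike.congr_fun hg' (Ideal.Quotient.mk Q a)
    have h2 := (Ideal.Quotient.eq).1 h1.symm
    have hgQ : (g'.1 : H) • Q = Q := g'.2
    have h2' : σ • a - (g'.1 : H) • a ∈ (g'.1 : H) • Q := by
      rw [hgQ]
      exact h2
    have h3 : (g'.1 : H)⁻¹ • (σ • a - (g'.1 : H) • a) ∈ Q :=
      Ideal.mem_pointwise_smul_iff_inv_smul_mem.1 h2'
    rw [smul_sub, ← mul_smul, inv_smul_smul] at h3
    exact h3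
  · intro h
    refine hτ ?_
    have h4 : σ ∈ N := by
      have := N.mul_mem g'.1.2 h
      rwa [mul_inv_cancel_left] at this
    have := N.mul_mem (N.inv_mem g.2) h4
    rwa [hσdef, inv_mul_cancel_left] at this

omit [Finite H] in
/-- In a commutative group, conjugate primes have the same inertia group. -/
lemma inertia_smul (Q : Ideal A) (h : H) : (h • Q).inertia H = Q.inertia H := by
  have aux : ∀ (h : H) (Q : Ideal A), Q.inertia H ≤ (h • Q).inertia H := fun h Q σ hσ a => by
    show σ • a - a ∈ h • Q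
    rw [Ideal.mem_pointwise_smul_iff_inv_smul_mem, smul_sub, ← mul_smul, mul_comm, mul_smul]
    exact hσ (h⁻¹ • a)
  refine le_antisymm ?_ (aux h Q)
  simpa using aux h⁻¹ (h • Q)

omit [Finite H] in
/-- Dedekind-type independence: elements of `A^N` independent over `A^H` are independent over `A^G`. -/
lemma eq_zero_of_sum_mul_eq_zero [IsDomain A] [Fintype H] {ι : Type*} [DecidableEq ι]
    (G N : Subgroup H) (hGN : ∀ h : H, ∃ g ∈ G, ∃ t ∈ N, h = g * t)
    (hfix : ∀ a : A, (∀ h : H, h • a = a) → a ∈ Set.range (algebraMap R A))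
    (b : ι → A) (hb : LinearIndependent R b) (hbN : ∀ k, b k ∈ Inv R A N) (s : Finset ι) :
    ∀ c : ι → A, (∀ k, c k ∈ Inv R A G) → ∑ k ∈ s, c k * b k = 0 → ∀ k ∈ s, c k = 0 := by
  induction s using Finset.induction_on with
  | empty => intro c _ _ k hk; exact absurd hk (Finset.notMem_empty k)
  | insert k₀ s hk₀ ih =>
    intro c hc hsum
    rcases eq_or_ne (c k₀) 0 with h0 | h0
    · rw [Finset.sum_insert hk₀, h0, zero_mul, zero_add] at hsum
      exact fun k hk => (Finset.mem_insert.1 hk).elim (fun e => e ▸ h0) (ih c hc hsum k)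
    · exfalso
      have key : ∀ (h : H), ∀ k ∈ insert k₀ s, c k₀ * h • c k = h • c k₀ * c k := by
        intro h
        obtain ⟨g, hg, t, ht, rfl⟩ := hGN h
        have e : ∀ k, (g * t) • c k = t • c k := fun k => by
          rw [mul_comm, mul_smul, mem_Inv.1 (hc k) g hg]
        have hsum' : ∑ k ∈ insert k₀ s, t • c k * b k = 0 := by
          have := congrArg (t • ·) hsum
          simp only [Finset.smul_sum, smul_zero, smul_mul', mem_Inv.1 (hbN _) t ht] at this
          exact this
        have hd : ∑ k ∈ s, (c k₀ * t • c k - t • c k₀ * c k) * b k = 0 := by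
          have : ∑ k ∈ insert k₀ s, (c k₀ * t • c k - t • c k₀ * c k) * b k = 0 := by
            simp only [sub_mul, mul_assoc, Finset.sum_sub_distrib, ← Finset.mul_sum, hsum, hsum',
              mul_zero, sub_zero]
          rwa [Finset.sum_insert hk₀, mul_comm (c k₀) (t • c k₀), sub_self, zero_mul, zero_add]
            at this
        intro k hk
        rw [e, e]
        rcases Finset.mem_insert.1 hk with rfl | hk
        · exact mul_comm _ _
        · exact sub_eq_zero.1 (ih _ (fun k => sub_mem (mul_mem (hc k₀) (smul_mem_Inv (hc k) t))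
            (mul_mem (smul_mem_Inv (hc k₀) t) (hc k))) hd k hk)
      classical
      set Q : A := ∏ h ∈ Finset.univ.erase (1 : H), h • c k₀
      set P : A := ∏ h : H, h • c k₀
      have hPQ : P = c k₀ * Q := by
        simp only [P, Q]
        rw [← Finset.mul_prod_erase Finset.univ _ (Finset.mem_univ (1 : H)), one_smul]
      have hP : ∀ h : H, h • P = P := fun h => by
        simp only [P]
        rw [Finset.smul_prod', ← Equiv.prod_comp (Equiv.mulLeft h) fun x => x • c k₀]
        exact Finset.prod_congr rfl fun x _ => (mul_smul h x (c k₀)).symm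
      have hP0 : P ≠ 0 := Finset.prod_ne_zero_iff.2 fun h _ => (smul_ne_zero_iff_ne _).2 h0
      have hev : ∀ k ∈ insert k₀ s, ∀ h : H, h • (c k * Q) = c k * Q := fun k hk h => by
        refine mul_left_cancel₀ h0 (mul_left_cancel₀ ((smul_ne_zero_iff_ne h).2 h0) ?_)
        calc h • c k₀ * (c k₀ * h • (c k * Q)) = c k₀ * h • c k * h • (c k₀ * Q) := by
              rw [smul_mul', smul_mul']; ring
          _ = h • c k₀ * c k * (c k₀ * Q) := by rw [key h k hk, ← hPQ, hP]
          _ = h • c k₀ * (c k₀ * (c k * Q)) := by ring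
      choose! e he using fun k hk => hfix (c k * Q) (hev k hk)
      have hz : ∑ k ∈ insert k₀ s, e k • b k = 0 := by
        calc ∑ k ∈ insert k₀ s, e k • b k = ∑ k ∈ insert k₀ s, Q * (c k * b k) :=
              Finset.sum_congr rfl fun k hk => by rw [Algebra.smul_def, he k hk]; ring
          _ = 0 := by rw [← Finset.mul_sum, hsum, mul_zero]
      have h1 := linearIndependent_iff'.1 hb _ e hz k₀ (Finset.mem_insert_self _ _)
      have h2 := he k₀ (Finset.mem_insert_self _ _)
      rw [h1, map_zero, ← hPQ] at h2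
      exact hP0 h2.symm

end Groth.Agent.InvGen
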