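import Groth.Agent.InvGen.Main

/-!
Generation of a ring by the invariant rings of complementary inertia groups.
-/

set_option autoImplicit false
set_option linter.style.haveILetI false

open scoped Pointwise

universe u v w

namespace Groth.Agent.InvGen

variable {R : Type u} [CommRing R] [IsDomain R] [IsNoetherianRing R] [IsIntegrallyClosed R]
  {A : Type v} [CommRing A] [IsDomain A] [Algebra R A] [Module.Finite R A]
  {H : Type w} [CommGroup H] [Finite H] [MulSemiringAction H A] [SMulCommClass H R A]
  [FaithfulSMul H A] {p n : ℕ} [Fact p.Prime] (G : Fin n → Subgroup H)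

theorem iSup_Inv_eq_top (hinj : Function.Injective (algebraMap R A))
    (hfix : ∀ a : A, (∀ h : H, h • a = a) → a ∈ Set.range (algebraMap R A))
    (hG : ∀ i, Nat.card (G i) = p) (hsup : (⨆ i, G i) = ⊤) (hcard : Nat.card H = p ^ n)
    (hMR3 : ∀ P : Ideal A, P.IsPrime → P.height = 1 → P.inertia H ≠ ⊥ → ∃ i, P.inertia H = G i)
    (hfree : ∀ i, Module.Free R (Inv R A (Perp G i))) :
    (⨆ i, Inv R A (Perp G i)) = ⊤ := by
  classical
  cases nonempty_fintype H
  haveI := hfree
  haveI hF : ∀ i, Module.Finite R (Inv R A (Perp G i)) := fun i =>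
    inferInstanceAs (Module.Finite R (Inv R A (Perp G i)).toSubmodule)
  let ι : Fin n → Type v := fun i => Module.Free.ChooseBasisIndex R (Inv R A (Perp G i))
  let B := fun i => Module.Free.chooseBasis R (Inv R A (Perp G i))
  let b : ∀ i, ι i → A := fun i k => (B i k : A)
  have hb : ∀ i, LinearIndependent R (b i) := fun i =>
    (B i).linearIndependent.map' (Inv R A (Perp G i)).val.toLinearMap
      (LinearMap.ker_eq_bot_of_injective Subtype.val_injective)
  have hbN : ∀ i k, b i k ∈ Inv R A (Perp G i) := fun i k => (B i k).2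
  let v : (∀ i, ι i) → A := fun k => ∏ i, b i (k i)
  have hv : LinearIndependent R v := linearIndependent_prod hfix hinj n G (Perp G)
    (fun i h => exists_mul G hsup i h) (fun i j hij => le_perp G hij) ι b hb hbN
  have hspan : prodSpan R A G ≤ Submodule.span R (Set.range v) := by
    refine Submodule.span_le.2 ?_
    rintro _ ⟨x, hx, rfl⟩
    have e : ∀ i, x i = ∑ k, (B i).repr ⟨x i, hx i⟩ k • b i k := fun i => by
      refine (congrArg (Inv R A (Perp G i)).val ((B i).sum_repr ⟨x i, hx i⟩)).symm.trans ?_
      rw [map_sum]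
      rfl
    rw [Finset.prod_congr rfl fun i _ => e i, Fintype.prod_sum]
    refine Submodule.sum_mem _ fun k _ => ?_
    simp only [Algebra.smul_def]
    rw [Finset.prod_mul_distrib, ← map_prod, ← Algebra.smul_def]
    exact Submodule.smul_mem _ _ (Submodule.subset_span ⟨k, rfl⟩)
  have coord : ∀ x ∈ prodSpan R A G, ∃ c : (∀ i, ι i) → R, ∑ k, c k • v k = x := fun x hx =>
    (Submodule.mem_span_range_iff_exists_fun R).1 (hspan hx)
  have hle : ∀ x ∈ prodSpan R A G, x ∈ ⨆ i, Inv R A (Perp G i) := by
    intro x hx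
    refine (Submodule.span_le (p := (⨆ i, Inv R A (Perp G i)).toSubmodule)).2 ?_ hx
    rintro _ ⟨y, hy, rfl⟩
    exact (⨆ i, Inv R A (Perp G i)).prod_mem fun i _ =>
      le_iSup (fun i => Inv R A (Perp G i)) i (hy i)
  rw [eq_top_iff]
  intro a _
  haveI : Algebra.IsIntegral R A := inferInstance
  obtain ⟨t, ht, hta⟩ :=
    exists_notMem_mul_mem G hinj hfix hG hsup hcard hMR3 (⊥ : Ideal R) (Or.inl rfl) a
  have ht0 : t ≠ 0 := fun h => ht (h ▸ Submodule.zero_mem _)
  obtain ⟨d, hd⟩ := coord _ hta
  have hdiv : ∀ k, t ∣ d k := fun k => by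
    have hmem := S2111.result (algebraMap R (FractionRing R) (d k) / algebraMap R (FractionRing R) t)
      fun P hP hPh => ?_
    · obtain ⟨r, hr⟩ := hmem
      rw [eq_div_iff ((map_ne_zero_iff _ (IsFractionRing.injective R (FractionRing R))).2 ht0),
        ← map_mul] at hr
      exact ⟨r, by rw [← IsFractionRing.injective R (FractionRing R) hr, mul_comm]⟩
    obtain ⟨s, hs, hsa⟩ := exists_notMem_mul_mem G hinj hfix hG hsup hcard hMR3 P (Or.inr hPh) a
    obtain ⟨e, he⟩ := coord _ hsa
    have h : ∑ k, (t * e k) • v k = ∑ k, (s * d k) • v k := by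
      simp only [mul_smul, ← Finset.smul_sum, he, hd]
      simp only [Algebra.smul_def]
      ring
    have hk := Fintype.linearIndependent_iff.1 hv (fun k => t * e k - s * d k)
      (by simp only [sub_smul, Finset.sum_sub_distrib, h, sub_self]) k
    have hs0 : algebraMap R (FractionRing R) s ≠ 0 :=
      (map_ne_zero_iff _ (IsFractionRing.injective R (FractionRing R))).2
        fun h => hs (h ▸ Submodule.zero_mem _)
    refine ⟨IsLocalization.mk' (Localization.AtPrime P) (e k) (⟨s, hs⟩ : P.primeCompl), ?_⟩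
    rw [eq_div_iff ((map_ne_zero_iff _ (IsFractionRing.injective R (FractionRing R))).2 ht0)]
    refine mul_left_cancel₀ hs0 ?_
    rw [IsScalarTower.algebraMap_apply R (Localization.AtPrime P) (FractionRing R) s, ← mul_assoc,
      ← map_mul, mul_comm (algebraMap R (Localization.AtPrime P) s), IsLocalization.mk'_spec,
      ← IsScalarTower.algebraMap_apply, ← IsScalarTower.algebraMap_apply, ← map_mul, ← map_mul,
      mul_comm (e k) t, sub_eq_zero.1 hk]
  choose r hr using hdiv
  have ha : a = ∑ k, r k • v k := by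
    refine mul_left_cancel₀ ((map_ne_zero_iff _ hinj).2 ht0) ?_
    rw [← hd, ← Algebra.smul_def, Finset.smul_sum]
    exact Finset.sum_congr rfl fun k _ => by rw [smul_smul, ← hr k]
  rw [ha]
  exact sum_mem fun k _ => Subalgebra.smul_mem _ (hle _ (prod_mem_prodSpan G _ fun i => hbN i (k i))) _

end Groth.Agent.InvGen
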