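import Groth.Agent.InvGen.Basic
import Groth.Agent.S2111
import Mathlib.LinearAlgebra.FreeModule.Finite.Basic
import Mathlib.GroupTheory.OrderOfElement

/-!
The invariant rings of the complements of the inertia groups generate the ring.
-/

set_option autoImplicit false
set_option linter.style.haveILetI false

open scoped Pointwise

universe u v w

namespace Groth.Agent.InvGen

section Group

variable {H : Type w} [CommGroup H] [Finite H] {p n : ℕ} [Fact p.Prime] (G : Fin n → Subgroup H)

/-- The subgroup generated by the others. -/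
def Perp (i : Fin n) : Subgroup H := ⨆ j ∈ (Finset.univ.erase i : Finset (Fin n)), G j

omit [Finite H] in
lemma le_perp {i j : Fin n} (h : j ≠ i) : G j ≤ Perp G i :=
  le_iSup₂ (f := fun j (_ : j ∈ (Finset.univ.erase i : Finset (Fin n))) => G j) j
    (Finset.mem_erase.2 ⟨h, Finset.mem_univ j⟩)

omit [Finite H] in
lemma exists_mul (hsup : (⨆ i, G i) = ⊤) (i : Fin n) (h : H) :
    ∃ g ∈ G i, ∃ t ∈ Perp G i, h = g * t := by
  have : G i ⊔ Perp G i = ⊤ := top_le_iff.1 (hsup ▸ iSup_le fun j => by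
    by_cases hj : j = i
    · exact hj ▸ le_sup_left
    · exact (le_perp G hj).trans le_sup_right)
  obtain ⟨g, hg, t, ht, e⟩ := Subgroup.mem_sup.1 (this ▸ Subgroup.mem_top h)
  exact ⟨g, hg, t, ht, e.symm⟩

lemma card_le (hG : ∀ i, Nat.card (G i) = p) (s : Finset (Fin n)) :
    Nat.card (⨆ j ∈ s, G j : Subgroup H) ≤ p ^ s.card := by
  induction s using Finset.induction_on with
  | empty => simp
  | insert a s ha ih =>
    rw [Finset.iSup_insert, Finset.card_insert_of_notMem ha, pow_succ']
    refine le_trans ?_ (Nat.mul_le_mul (hG a).le ih)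
    rw [← Nat.card_prod]
    refine Nat.card_le_card_of_surjective
      (fun x => ⟨x.1.1 * x.2.1, Subgroup.mul_mem_sup x.1.2 x.2.2⟩) fun x => ?_
    obtain ⟨g, hg, t, ht, e⟩ := Subgroup.mem_sup.1 x.2
    exact ⟨(⟨g, hg⟩, ⟨t, ht⟩), Subtype.ext e⟩

variable (hG : ∀ i, Nat.card (G i) = p) (hsup : (⨆ i, G i) = ⊤) (hcard : Nat.card H = p ^ n)

include hG hsup hcard in
lemma not_le_perp (i : Fin n) : ¬ G i ≤ Perp G i := fun h => by
  have ht : Perp G i = ⊤ := top_le_iff.1 (hsup ▸ iSup_le fun j => by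
    by_cases hj : j = i
    · exact hj ▸ h
    · exact le_perp G hj)
  have := card_le G hG (Finset.univ.erase i)
  rw [show (⨆ j ∈ (Finset.univ.erase i : Finset (Fin n)), G j) = ⊤ from ht, Subgroup.card_top,
    hcard, Finset.card_erase_of_mem (Finset.mem_univ i), Finset.card_univ, Fintype.card_fin] at this
  have hn : 0 < n := i.pos
  exact absurd this (not_le.2 (Nat.pow_lt_pow_right (Fact.out : p.Prime).one_lt (by omega)))

include hG hsup hcard in
lemma eq_one_of_mem {i : Fin n} {g : H} (hg : g ∈ G i) (hg' : g ∈ Perp G i) : g = 1 := by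
  by_contra h1
  refine not_le_perp G hG hsup hcard i fun x hx => ?_
  haveI : Fact (Nat.card (G i)).Prime := ⟨hG i ▸ Fact.out⟩
  have hz : (⟨x, hx⟩ : G i) ∈ Subgroup.zpowers (⟨g, hg⟩ : G i) :=
    mem_zpowers_of_prime_card (p := p) (hG i) (fun h => h1 (congrArg Subtype.val h))
  obtain ⟨k, hk⟩ := Subgroup.mem_zpowers_iff.1 hz
  have hk' : g ^ k = x := congrArg Subtype.val hk
  exact hk' ▸ zpow_mem hg' k

include hG hsup hcard in
lemma eq_one_of_forall_mem {τ : H} (h : ∀ j, τ ∈ Perp G j) : τ = 1 := by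
  suffices ∀ (s : Finset (Fin n)) (τ : H), τ ∈ (⨆ j ∈ s, G j : Subgroup H) →
      (∀ j ∈ s, τ ∈ Perp G j) → τ = 1 from
    this Finset.univ τ (by simp [hsup]) fun j _ => h j
  intro s
  induction s using Finset.induction_on with
  | empty => intro τ hτ _; simpa using hτ
  | insert a s ha ih =>
    intro τ hτ hj
    rw [Finset.iSup_insert] at hτ
    obtain ⟨g, hg, t, ht, rfl⟩ := Subgroup.mem_sup.1 hτ
    have hta : t ∈ Perp G a :=
      (iSup₂_le fun j hjs => le_perp G (fun e : j = a => ha (e ▸ hjs))) ht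
    have hg1 : g = 1 := eq_one_of_mem G hG hsup hcard hg
      (((Perp G a).mul_mem_cancel_right hta).1 (hj a (Finset.mem_insert_self a s)))
    rw [hg1, one_mul] at hj ⊢
    exact ih t ht fun j hjs => hj j (Finset.mem_insert_of_mem hjs)

end Group

variable {R : Type u} [CommRing R] {A : Type v} [CommRing A] [IsDomain A] [Algebra R A]
  {H : Type w} [CommGroup H] [MulSemiringAction H A] [SMulCommClass H R A]

/-- Products of invariant elements with independent factors are independent. -/
lemma linearIndependent_prod [Fintype H]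
    (hfix : ∀ a : A, (∀ h : H, h • a = a) → a ∈ Set.range (algebraMap R A))
    (hinj : Function.Injective (algebraMap R A)) :
    ∀ (n : ℕ) (G N : Fin n → Subgroup H) (_ : ∀ i, ∀ h : H, ∃ g ∈ G i, ∃ t ∈ N i, h = g * t)
      (_ : ∀ i j, i ≠ j → G i ≤ N j) (ι : Fin n → Type v) [∀ i, Fintype (ι i)]
      (b : ∀ i, ι i → A) (_ : ∀ i, LinearIndependent R (b i)) (_ : ∀ i k, b i k ∈ Inv R A (N i)),
      LinearIndependent R fun k : ∀ i, ι i => ∏ i, b i (k i) := by
  intro n
  induction n with
  | zero =>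
    intro G N _ _ ι _ b _ _
    rw [Fintype.linearIndependent_iff]
    intro r hr k
    rw [Fintype.sum_unique] at hr
    simp only [Finset.univ_eq_empty, Finset.prod_empty, Algebra.smul_def, mul_one] at hr
    rw [Subsingleton.elim k default]
    exact hinj (hr.trans (map_zero _).symm)
  | succ n ih =>
    intro G N hGN hle ι _ b hb hbN
    have hw := ih (fun i => G i.succ) (fun i => N i.succ) (fun i => hGN i.succ)
      (fun i j hij => hle _ _ (fun e => hij (Fin.succ_injective n e))) (fun i => ι i.succ)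
      (fun i => b i.succ) (fun i => hb i.succ) (fun i k => hbN i.succ k)
    rw [← linearIndependent_equiv (Fin.consEquiv ι), Fintype.linearIndependent_iff]
    intro r hr
    rw [Fintype.linearIndependent_iff] at hw
    classical
    have hc := eq_zero_of_sum_mul_eq_zero (G 0) (N 0) (hGN 0) hfix (b 0) (hb 0) (hbN 0) Finset.univ
      (fun m => ∑ k, r (m, k) • ∏ i, b i.succ (k i)) (fun m => sum_mem fun k _ =>
        Subalgebra.smul_mem _ ((Inv R A (G 0)).prod_mem fun i _ => mem_Inv.2 fun g hg =>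
          mem_Inv.1 (hbN i.succ (k i)) g (hle 0 i.succ (Fin.succ_ne_zero i).symm hg)) _) (by
        refine Eq.trans ?_ hr
        rw [Fintype.sum_prod_type]
        refine Finset.sum_congr rfl fun m _ => ?_
        rw [Finset.sum_mul]
        refine Finset.sum_congr rfl fun k _ => ?_
        simp only [Function.comp_apply, Fin.consEquiv_apply, Fin.prod_univ_succ, Fin.cons_zero,
          Fin.cons_succ]
        rw [smul_mul_assoc, mul_comm (∏ i, _)])
    rintro ⟨m, k⟩
    exact hw (fun k => r (m, k)) (hc m (Finset.mem_univ m)) k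

variable [Finite H] [FaithfulSMul H A] {p n : ℕ} [Fact p.Prime] (G : Fin n → Subgroup H)
  (hinj : Function.Injective (algebraMap R A))
  (hfix : ∀ a : A, (∀ h : H, h • a = a) → a ∈ Set.range (algebraMap R A))
  (hG : ∀ i, Nat.card (G i) = p) (hsup : (⨆ i, G i) = ⊤) (hcard : Nat.card H = p ^ n)
  (hMR3 : ∀ P : Ideal A, P.IsPrime → P.height = 1 → P.inertia H ≠ ⊥ → ∃ i, P.inertia H = G i)

variable (R A) in
/-- Products of invariant elements. -/
def prodSpan : Submodule R A :=
  Submodule.span R {a | ∃ x : Fin n → A, (∀ i, x i ∈ Inv R A (Perp G i)) ∧ a = ∏ i, x i}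

omit [IsDomain A] [Finite H] [FaithfulSMul H A] in
lemma prod_mem_prodSpan (x : Fin n → A) (hx : ∀ i, x i ∈ Inv R A (Perp G i)) :
    ∏ i, x i ∈ prodSpan R A G := Submodule.subset_span ⟨x, hx, rfl⟩

omit [IsDomain A] [Finite H] [FaithfulSMul H A] in
lemma one_mem_prodSpan : (1 : A) ∈ prodSpan R A G := by
  simpa using prod_mem_prodSpan (R := R) G (fun _ => (1 : A)) fun i => one_mem _

omit [IsDomain A] [Finite H] [FaithfulSMul H A] in
lemma Inv_le_prodSpan (i : Fin n) {a : A} (ha : a ∈ Inv R A (Perp G i)) :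
    a ∈ prodSpan R A G := by
  classical
  have h := prod_mem_prodSpan (R := R) G (fun j => if j = i then a else 1) fun j => by
    split_ifs with h
    · exact h ▸ ha
    · exact one_mem _
  simpa using h

omit [IsDomain A] [Finite H] [FaithfulSMul H A] in
lemma mul_mem_prodSpan {a b : A} (ha : a ∈ prodSpan R A G) (hb : b ∈ prodSpan R A G) :
    a * b ∈ prodSpan R A G := by
  have h := Submodule.mul_mem_mul ha hb
  rw [prodSpan, Submodule.span_mul_span] at h
  refine Submodule.span_le.2 ?_ h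
  rintro _ ⟨_, ⟨x, hx, rfl⟩, _, ⟨y, hy, rfl⟩, rfl⟩
  simp only [← Finset.prod_mul_distrib]
  exact prod_mem_prodSpan G _ fun i => mul_mem (hx i) (hy i)

include hinj hfix hG hsup hcard hMR3 in
/-- At a prime of height at most one, only one of the groups is bad. -/
lemma exists_unique_bad [IsDomain R] [Algebra.IsIntegral R A] (hn : 0 < n) (P : Ideal R)
    [P.IsPrime] (hP : P = ⊥ ∨ P.height = 1) : ∃ i, ∀ j, j ≠ i → ∀ τ : H, τ ∉ Perp G j →
      ∀ Q : Ideal A, Q.IsPrime → Q.under R ≤ P →
        (∀ a ∈ Inv R A (Perp G j), τ • a - a ∈ Q) → False := by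
  haveI : Algebra.IsInvariant R A H := ⟨fun a h => hfix a h⟩
  have main : ∀ j τ, τ ∉ Perp G j → ∀ Q : Ideal A, Q.IsPrime → Q.under R ≤ P →
      (∀ a ∈ Inv R A (Perp G j), τ • a - a ∈ Q) → Q.under R = P ∧ Q.inertia H = G j := by
    intro j τ hτ Q hQ hle hQa
    obtain ⟨ρ, hρ, hρN⟩ := exists_inertia hτ Q hQa
    have hne : Q.under R ≠ ⊥ := fun h => by
      have hQ0 : Q = ⊥ := Ideal.eq_bot_of_comap_eq_bot h
      subst hQ0
      refine hρN ?_
      have : ρ = 1 := FaithfulSMul.eq_of_smul_eq_smul (α := A) fun a => by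
        rw [one_smul]
        exact sub_eq_zero.1 (Ideal.mem_bot.1 (hρ a))
      exact this ▸ one_mem _
    rcases hP with rfl | hP
    · exact absurd (le_bot_iff.1 hle) hne
    · have hPfin : P.FiniteHeight := ⟨Or.inr (by rw [hP]; exact ENat.one_ne_top)⟩
      have heq : Q.under R = P := by
        by_contra hne'
        have hlt : Q.under R < P := lt_of_le_of_ne hle hne'
        have := Ideal.height_strict_mono_of_isPrime_of_isPrime hlt
        rw [hP, Order.lt_one_iff, Ideal.height_eq_zero_iff_eq_bot] at this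
        exact hne this
      have hQh : Q.height = 1 := by
        refine le_antisymm ?_ ?_
        · rw [← Nat.cast_one, Ideal.height_le_iff]
          intro Q' hQ' hlt
          have hcl : Q'.under R < P := heq ▸ Ideal.IsIntegral.comap_lt_comap hlt
          have h0 : Q'.under R = ⊥ := by
            have := Ideal.height_strict_mono_of_isPrime_of_isPrime hcl
            rwa [hP, Order.lt_one_iff, Ideal.height_eq_zero_iff_eq_bot] at this
          rw [Ideal.eq_bot_of_comap_eq_bot h0, Ideal.height_bot]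
          simp
        · rw [Order.one_le_iff_ne_zero, Ne, Ideal.height_eq_zero_iff_eq_bot]
          rintro rfl
          exact hne (by simp [Ideal.under_def, Ideal.comap_bot_of_injective _ hinj])
      obtain ⟨m, hm⟩ := hMR3 Q hQ hQh fun h => hρN (by
        rw [h, Subgroup.mem_bot] at hρ
        exact hρ ▸ one_mem _)
      refine ⟨heq, ?_⟩
      have hmj : m = j := by
        by_contra hmj
        exact hρN (le_perp G hmj (hm ▸ hρ))
      exact hmj ▸ hm
  by_cases hbad : ∃ i τ, τ ∉ Perp G i ∧ ∃ Q : Ideal A, Q.IsPrime ∧ Q.under R ≤ P ∧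
      ∀ a ∈ Inv R A (Perp G i), τ • a - a ∈ Q
  · obtain ⟨i, τ, hτ, Q, hQ, hle, hQa⟩ := hbad
    obtain ⟨h1, h2⟩ := main i τ hτ Q hQ hle hQa
    refine ⟨i, fun j hj τ' hτ' Q' hQ' hle' hQa' => hj ?_⟩
    obtain ⟨h1', h2'⟩ := main j τ' hτ' Q' hQ' hle' hQa'
    obtain ⟨g, hg⟩ := Algebra.IsInvariant.exists_smul_of_under_eq R A H Q Q' (h1.trans h1'.symm)
    rw [hg, inertia_smul, h2] at h2'
    by_contra hne
    exact not_le_perp G hG hsup hcard j (h2' ▸ le_perp G (Ne.symm hne))
  · push Not at hbad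
    exact ⟨⟨0, hn⟩, fun j _ τ hτ Q hQ hle hQa => by
      obtain ⟨a, ha, h⟩ := hbad j τ hτ Q hQ hle
      exact h (hQa a ha)⟩

include hinj hfix hG hsup hcard hMR3 in
/-- Locally at a prime of height at most one, `A` is spanned by the products. -/
lemma exists_notMem_mul_mem [IsDomain R] [Algebra.IsIntegral R A] (P : Ideal R)
    [P.IsPrime] (hP : P = ⊥ ∨ P.height = 1) (a : A) :
    ∃ s ∉ P, algebraMap R A s * a ∈ prodSpan R A G := by
  rcases Nat.eq_zero_or_pos n with rfl | hn
  · have hH : Subsingleton H := (Nat.card_eq_one_iff_unique.1 (by simpa using hcard)).1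
    obtain ⟨r, rfl⟩ := hfix a fun h => by rw [Subsingleton.elim h 1, one_smul]
    refine ⟨1, fun h => Ideal.IsPrime.ne_top' ((Ideal.eq_top_iff_one P).2 h), ?_⟩
    rw [map_one, one_mul, ← mul_one (algebraMap R A r), ← Algebra.smul_def]
    exact Submodule.smul_mem _ _ (one_mem_prodSpan G)
  obtain ⟨i, hi⟩ := exists_unique_bad G hinj hfix hG hsup hcard hMR3 hn P hP
  classical
  cases nonempty_fintype H
  let M : Submodule R (H → A) := Submodule.span R
    {f | ∃ x ∈ prodSpan R A G, ∃ y : A, f = fun ρ => x * ρ • y}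
  have hMmul : ∀ {f g}, f ∈ M → g ∈ M → f * g ∈ M := fun {f g} hf hg => by
    have h := Submodule.mul_mem_mul hf hg
    simp only [M, Submodule.span_mul_span] at h
    refine Submodule.span_le.2 ?_ h
    rintro _ ⟨_, ⟨x, hx, y, rfl⟩, _, ⟨x', hx', y', rfl⟩, rfl⟩
    exact Submodule.subset_span ⟨x * x', mul_mem_prodSpan G hx hx', y * y', funext fun ρ => by
      simp only [Pi.mul_apply, smul_mul']; ring⟩
  have hconst : ∀ x ∈ prodSpan R A G, (fun _ => x) ∈ M := fun x hx =>
    Submodule.subset_span ⟨x, hx, 1, funext fun ρ => by rw [smul_one, mul_one]⟩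
  have heval : ∀ y : A, (fun ρ : H => ρ • y) ∈ M := fun y =>
    Submodule.subset_span ⟨1, one_mem_prodSpan G, y, funext fun ρ => (one_mul _).symm⟩
  have hone : ∀ τ ∈ Perp G i, τ ≠ 1 → ∃ s ∉ P, ∃ f ∈ M, f 1 = algebraMap R A s ∧ f τ = 0 := by
    intro τ hτi hτ1
    obtain ⟨j, hτj⟩ : ∃ j, τ ∉ Perp G j := by
      by_contra h
      push Not at h
      exact hτ1 (eq_one_of_forall_mem G hG hsup hcard h)
    have hji : j ≠ i := fun e => hτj (e ▸ hτi)
    let C := Inv R A (Perp G j)
    let J : Ideal C := Ideal.span {c | ∃ a : C, (c : A) = τ • (a : A) - a}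
    have hJ : ∀ c ∈ J, ∃ f ∈ M, f 1 = (c : A) ∧ f τ = 0 := by
      intro c hc
      induction hc using Submodule.span_induction with
      | mem c hc =>
        obtain ⟨a, ha⟩ := hc
        refine ⟨(fun _ => τ • (a : A)) - fun ρ => ρ • (a : A), M.sub_mem (hconst _
          (Inv_le_prodSpan G j (smul_mem_Inv a.2 τ))) (heval a), ?_, ?_⟩
        · simp [ha]
        · simp
      | zero => exact ⟨0, M.zero_mem, rfl, rfl⟩
      | add c d _ _ hc hd =>
        obtain ⟨f, hf, f1, f0⟩ := hc
        obtain ⟨g, hg, g1, g0⟩ := hd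
        exact ⟨f + g, M.add_mem hf hg, by simp [f1, g1], by simp [f0, g0]⟩
      | smul r c _ hc =>
        obtain ⟨f, hf, f1, f0⟩ := hc
        exact ⟨(fun _ => (r : A)) * f, hMmul (hconst _ (Inv_le_prodSpan G j r.2)) hf,
          by simp [f1], by simp [f0]⟩
    by_cases hdis : Disjoint (J : Set C) (Algebra.algebraMapSubmonoid C P.primeCompl : Set C)
    · exfalso
      obtain ⟨Q₀, hQ₀, hJQ, hQd⟩ := Ideal.exists_le_prime_disjoint J _ hdis
      haveI := hQ₀
      haveI : Algebra.IsIntegral C A := Algebra.IsIntegral.tower_top R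
      obtain ⟨Q, -, hQ, hQc⟩ := Ideal.exists_ideal_over_prime_of_isIntegral Q₀ (⊥ : Ideal A)
        (by
          rw [Ideal.comap_bot_of_injective (algebraMap C A) Subtype.val_injective]
          exact bot_le)
      refine hi j hji τ hτj Q hQ (fun r hr => ?_) fun a ha => ?_
      · by_contra hrP
        refine Set.disjoint_left.1 hQd ?_ ⟨r, hrP, rfl⟩
        show algebraMap R C r ∈ Q₀
        rw [← hQc, Ideal.mem_comap]
        exact hr
      · have hm : (⟨τ • a - a, sub_mem (smul_mem_Inv ha τ) ha⟩ : C) ∈ J :=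
          Ideal.subset_span ⟨⟨a, ha⟩, rfl⟩
        have := hJQ hm
        rw [← hQc, Ideal.mem_comap] at this
        exact this
    · obtain ⟨c, hc, s, hs, rfl⟩ := Set.not_disjoint_iff.1 hdis
      obtain ⟨f, hf, f1, f0⟩ := hJ _ hc
      exact ⟨s, hs, f, hf, f1, f0⟩
  let S : Finset H := Finset.univ.filter fun τ => τ ∈ Perp G i
  obtain ⟨s, hs, f, hf, hf1, hf0⟩ : ∃ s ∉ P, ∃ f ∈ M, f 1 = algebraMap R A s ∧
      ∀ τ ∈ S.erase 1, f τ = 0 := by
    suffices ∀ T : Finset H, T ⊆ S.erase 1 → ∃ s ∉ P, ∃ f ∈ M, f 1 = algebraMap R A s ∧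
        ∀ τ ∈ T, f τ = 0 from this _ subset_rfl
    intro T
    induction T using Finset.induction_on with
    | empty =>
      exact fun _ => ⟨1, fun h => Ideal.IsPrime.ne_top' ((Ideal.eq_top_iff_one P).2 h), fun _ => 1,
        hconst 1 (one_mem_prodSpan G), (map_one _).symm, by simp⟩
    | insert τ T hτT ih =>
      intro hsub
      obtain ⟨s, hs, f, hf, f1, f0⟩ := ih fun x hx => hsub (Finset.mem_insert_of_mem hx)
      have hτ := hsub (Finset.mem_insert_self τ T)
      simp only [S, Finset.mem_erase, Finset.mem_filter, Finset.mem_univ, true_and] at hτ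
      obtain ⟨s', hs', g, hg, g1, g0⟩ := hone τ hτ.2 hτ.1
      refine ⟨s * s', fun h => (Ideal.IsPrime.mem_or_mem ‹_› h).elim hs hs', f * g, hMmul hf hg,
        by simp [f1, g1], fun x hx => ?_⟩
      rcases Finset.mem_insert.1 hx with rfl | hx
      · simp [g0]
      · simp [f0 x hx]
  refine ⟨s, hs, ?_⟩
  have htr : ∀ z : A, ∑ ρ ∈ S, ρ • z ∈ Inv R A (Perp G i) := fun z => mem_Inv.2 fun t ht => by
    rw [Finset.smul_sum]
    refine Finset.sum_equiv (Equiv.mulLeft t) (fun ρ => ?_) fun ρ _ => (mul_smul t ρ z).symm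
    simp [S, (Perp G i).mul_mem_cancel_left ht]
  have hM : ∀ g ∈ M, ∑ ρ ∈ S, g ρ * ρ • a ∈ prodSpan R A G := by
    intro g hg
    induction hg using Submodule.span_induction with
    | mem g hg =>
      obtain ⟨x, hx, y, rfl⟩ := hg
      simp only [mul_assoc, ← smul_mul', ← Finset.mul_sum]
      exact mul_mem_prodSpan G hx (Inv_le_prodSpan G i (htr _))
    | zero => simp
    | add g g' _ _ h h' =>
      simp only [Pi.add_apply, add_mul, Finset.sum_add_distrib]
      exact add_mem h h'
    | smul r g _ h =>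
      simp only [Pi.smul_apply, smul_mul_assoc, ← Finset.smul_sum]
      exact Submodule.smul_mem _ r h
  have := hM f hf
  rw [← Finset.add_sum_erase S _ (show (1 : H) ∈ S by simp [S]),
    Finset.sum_eq_zero fun τ hτ => by rw [hf0 τ hτ, zero_mul], add_zero, hf1, one_smul] at this
  exact this

end Groth.Agent.InvGen
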